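import Groth.Prelude.Def_DRing2
import Mathlib.Algebra.Category.ModuleCat.Monoidal.Adjunction
import Mathlib.Algebra.Category.ModuleCat.Descent
import Mathlib.Algebra.Category.ModuleCat.Projective
import Mathlib.CategoryTheory.Abelian.LeftDerived
import Mathlib.Algebra.Homology.Additive
import Mathlib.Algebra.Homology.ShortComplex.PreservesHomology

/-!
Flat base change of `Tor`.
-/

universe u

open CategoryTheory CategoryTheory.Limits MonoidalCategory

noncomputable section

namespace Groth.Agent.FlatCxLib

variable {A A' : Type u} [CommRing A] [CommRing A'] (f : A →+* A')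

/-- Tensoring commutes with the extension of scalars. -/
def tensorBC (P : ModuleCat.{u} A) :
    ModuleCat.extendScalars f ⋙ (tensoringLeft (ModuleCat.{u} A')).obj ((ModuleCat.extendScalars f).obj P) ≅
      (tensoringLeft (ModuleCat.{u} A)).obj P ⋙ ModuleCat.extendScalars f :=
  NatIso.ofComponents (fun Q => Functor.Monoidal.μIso (ModuleCat.extendScalars f) P Q)
    fun g => Functor.LaxMonoidal.μ_natural_right (ModuleCat.extendScalars f) P g

/-- Exact functors commute with homology of complexes. -/
def homologyMapIso {C : Type*} [Category C] [Abelian C] {D : Type*} [Category D] [Abelian D] (F : C ⥤ D)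
    [F.Additive] [F.PreservesHomology] (K : ChainComplex C ℕ) (n : ℕ) :
    ((F.mapHomologicalComplex _).obj K).homology n ≅ F.obj (K.homology n) :=
  (K.sc n).mapHomologyIso F

theorem tor_baseChange (hf : f.Flat) (P Q : ModuleCat.{u} A) (n : ℕ) :
    Nonempty ((ModuleCat.extendScalars f).obj (((CategoryTheory.Tor (ModuleCat.{u} A) n).obj P).obj Q) ≅
      ((CategoryTheory.Tor (ModuleCat.{u} A') n).obj ((ModuleCat.extendScalars f).obj P)).obj
        ((ModuleCat.extendScalars f).obj Q)) := by
  let E := ModuleCat.extendScalars f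
  haveI : E.IsLeftAdjoint := (ModuleCat.extendRestrictScalarsAdj f).isLeftAdjoint
  haveI := preservesBinaryBiproducts_of_preservesBinaryCoproducts E
  haveI : E.Additive := CategoryTheory.Functor.additive_of_preservesBinaryBiproducts _
  haveI : PreservesFiniteLimits E := ModuleCat.preservesFiniteLimits_extendScalars_of_flat hf
  haveI : E.PreservesHomology := inferInstance
  haveI : E.PreservesProjectiveObjects :=
    Functor.preservesProjectiveObjects_of_adjunction_of_preservesEpimorphisms (ModuleCat.extendRestrictScalarsAdj f)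
  let R := ProjectiveResolution.of Q
  let R' := E.mapProjectiveResolution R
  let G := (tensoringLeft (ModuleCat.{u} A)).obj P
  let G' := (tensoringLeft (ModuleCat.{u} A')).obj (E.obj P)
  refine ⟨(E.mapIso (R.isoLeftDerivedObj G n)) ≪≫ (homologyMapIso E ((G.mapHomologicalComplex _).obj R.complex) n).symm ≪≫
    (HomologicalComplex.homologyFunctor _ _ n).mapIso ?_ ≪≫ (R'.isoLeftDerivedObj G' n).symm⟩
  exact (NatIso.mapHomologicalComplex (tensorBC f P) _).symm.app R.complex

theorem tor_flat_baseChange (A A' : Type u) [CommRing A] [CommRing A'] [inst : Algebra A A'] [Module.Flat A A']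
    (P Q : Type u) [AddCommGroup P] [Module A P] [AddCommGroup Q] [Module A Q] (n : ℕ) :
    Nonempty (TensorProduct A A' (DRing.Tor A n P Q) ≃ₗ[A']
      DRing.Tor A' n (TensorProduct A A' P) (TensorProduct A A' Q)) := by
  have hf : (algebraMap A A').Flat := RingHom.flat_algebraMap_iff.2 ‹_›
  obtain ⟨f, rfl⟩ : ∃ f : A →+* A', inst = f.toAlgebra := ⟨algebraMap A A', Algebra.algebra_ext _ _ fun _ => rfl⟩
  obtain ⟨e⟩ := tor_baseChange f hf (ModuleCat.of A P) (ModuleCat.of A Q) n
  exact ⟨e.toLinearEquiv⟩

end Groth.Agent.FlatCxLib
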